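import Groth.Agent.Dim.Support
import Mathlib.RingTheory.Ideal.KrullsHeightTheorem
import Mathlib.RingTheory.Ideal.GoingDown
import Mathlib.RingTheory.Ideal.AssociatedPrime.Localization
import Mathlib.RingTheory.Flat.Basic
import Mathlib.RingTheory.KrullDimension.LocalRing
import Mathlib.RingTheory.KrullDimension.Regular

/-!
# Dimension formula for local homomorphisms of Noetherian local rings

* `ringKrullDim_le_add_fibre`: `dim B ≤ dim A + dim B/𝔪B`.
* `ringKrullDim_eq_add_fibre`: equality under going down.
* `exists_le_support_comap_eq`: going down for the support of an `A`-flat finite `B`-module.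
* `supportDim_tensor_eq_add`: `dim_B (N ⊗ M) = dim_A M + dim_B (N/𝔪N)` for `N` flat over `A`.
-/

set_option autoImplicit false
set_option linter.style.haveILetI false

open TensorProduct IsLocalRing

namespace Groth.Agent.Dim

universe u v

section rings

variable (A : Type u) (B : Type v) [CommRing A] [CommRing B] [IsNoetherianRing A] [IsNoetherianRing B]
  [IsLocalRing A] [IsLocalRing B] [Algebra A B] [IsLocalHom (algebraMap A B)]

omit [IsNoetherianRing A] [IsNoetherianRing B] in
theorem liesOver_maximalIdeal : (maximalIdeal B).LiesOver (maximalIdeal A) :=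
  ⟨(((local_hom_TFAE (algebraMap A B)).out 0 4).mp ‹IsLocalHom (algebraMap A B)› : (maximalIdeal B).comap (algebraMap A B) = maximalIdeal A).symm⟩

omit [IsNoetherianRing A] [IsNoetherianRing B] in
theorem fibre_height :
    (((maximalIdeal B).map (Ideal.Quotient.mk ((maximalIdeal A).map (algebraMap A B)))).height :
      WithBot ℕ∞) = ringKrullDim (B ⧸ (maximalIdeal A).map (algebraMap A B)) := by
  haveI : Nontrivial (B ⧸ (maximalIdeal A).map (algebraMap A B)) :=
    Ideal.Quotient.nontrivial_iff.2 (ne_top_of_le_ne_top (Ideal.IsPrime.ne_top')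
      (map_maximalIdeal_le (algebraMap A B)))
  haveI : IsLocalRing (B ⧸ (maximalIdeal A).map (algebraMap A B)) :=
    IsLocalRing.of_surjective' (Ideal.Quotient.mk _) Ideal.Quotient.mk_surjective
  have hle : RingHom.ker (Ideal.Quotient.mk ((maximalIdeal A).map (algebraMap A B))) ≤ maximalIdeal B := by
    rw [Ideal.mk_ker]; exact map_maximalIdeal_le (algebraMap A B)
  rw [← maximalIdeal_height_eq_ringKrullDim,
    IsLocalRing.eq_maximalIdeal (Ideal.IsMaximal.map_of_surjective_of_ker_le
      Ideal.Quotient.mk_surjective hle)]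

/-- `dim B ≤ dim A + dim (B/𝔪_A B)`. -/
theorem ringKrullDim_le_add_fibre :
    ringKrullDim B ≤ ringKrullDim A + ringKrullDim (B ⧸ (maximalIdeal A).map (algebraMap A B)) := by
  haveI := liesOver_maximalIdeal A B
  rw [← maximalIdeal_height_eq_ringKrullDim, ← maximalIdeal_height_eq_ringKrullDim (R := A),
    ← fibre_height A B]
  exact_mod_cast Ideal.height_le_height_add_of_liesOver (maximalIdeal A) (maximalIdeal B)

/-- `dim B = dim A + dim (B/𝔪_A B)` when going down holds. -/
theorem ringKrullDim_eq_add_fibre [Algebra.HasGoingDown A B] :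
    ringKrullDim B = ringKrullDim A + ringKrullDim (B ⧸ (maximalIdeal A).map (algebraMap A B)) := by
  haveI := liesOver_maximalIdeal A B
  rw [← maximalIdeal_height_eq_ringKrullDim, ← maximalIdeal_height_eq_ringKrullDim (R := A),
    ← fibre_height A B]
  exact_mod_cast Ideal.height_eq_height_add_of_liesOver_of_hasGoingDown (maximalIdeal A) (maximalIdeal B)

end rings

/-- Going down in the support of a finite module that is flat over the base. -/
theorem exists_le_support_comap_eq {A : Type u} {B : Type u} [CommRing A] [CommRing B]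
    [IsNoetherianRing B] [Algebra A B] (N : Type v) [AddCommGroup N] [Module A N] [Module B N]
    [IsScalarTower A B N] [Module.Finite B N] [Module.Flat A N] (p : Ideal A) [p.IsPrime]
    (q : PrimeSpectrum B) (hq : q ∈ Module.support B N) (hp : p ≤ q.asIdeal.comap (algebraMap A B)) :
    ∃ q' : PrimeSpectrum B, q' ≤ q ∧ q' ∈ Module.support B N ∧
      q'.asIdeal.comap (algebraMap A B) = p := by
  let P := N ⊗[A] (A ⧸ p)
  haveI : Module.Finite B P :=
    Module.Finite.equiv (AlgebraTensorModule.cancelBaseChange A B B N (A ⧸ p))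
  have hsupp := support_tensor A B N (A ⧸ p)
  rw [Module.support_eq_zeroLocus (M := A ⧸ p), Ideal.annihilator_quotient] at hsupp
  have hqP : q ∈ Module.support B P := by rw [hsupp]; exact ⟨hq, hp⟩
  obtain ⟨Q, hQ, hQq⟩ := Ideal.exists_minimalPrimes_le (Module.mem_support_iff_of_finite.1 hqP)
  haveI := hQ.1.1
  have hQP : (⟨Q, inferInstance⟩ : PrimeSpectrum B) ∈ Module.support B P :=
    Module.mem_support_iff_of_finite.2 hQ.1.2
  rw [hsupp] at hQP
  refine ⟨⟨Q, inferInstance⟩, hQq, hQP.1, le_antisymm (fun a ha => ?_) hQP.2⟩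
  by_contra hap
  obtain ⟨hQprime, m, hm⟩ := Module.associatedPrimes.minimalPrimes_annihilator_subset_associatedPrimes
    B P hQ
  obtain ⟨n, hn⟩ := (show algebraMap A B a ∈ ((⊥ : Submodule B P).colon {m}).radical from
    hm ▸ (show algebraMap A B a ∈ Q from ha))
  rw [Submodule.mem_colon_singleton, Submodule.mem_bot, ← map_pow] at hn
  have hreg : Function.Injective
      (LinearMap.lTensor N (a ^ n • LinearMap.id : (A ⧸ p) →ₗ[A] (A ⧸ p))) := by
    refine Module.Flat.lTensor_preserves_injective_linearMap _ ?_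
    rw [injective_iff_map_eq_zero]
    intro y hy
    obtain ⟨y, rfl⟩ := Ideal.Quotient.mk_surjective y
    rw [LinearMap.smul_apply, LinearMap.id_apply, Algebra.smul_def,
      Ideal.Quotient.algebraMap_eq, ← map_mul, Ideal.Quotient.eq_zero_iff_mem] at hy
    rw [Ideal.Quotient.eq_zero_iff_mem]
    exact (‹p.IsPrime›.mem_or_mem hy).resolve_left fun h => hap (‹p.IsPrime›.mem_of_pow_mem n h)
  have hm0 : m = 0 := by
    apply hreg
    rw [map_zero, LinearMap.lTensor_smul, LinearMap.lTensor_id, LinearMap.smul_apply,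
      LinearMap.id_apply, ← algebraMap_smul B]
    exact hn
  subst hm0
  exact hQprime.ne_top (hm.trans (by simp))

/-- `dim_B (N ⊗_A M) = dim_A M + dim_B (N / 𝔪_A N)` for `N` flat over `A`. -/
theorem supportDim_tensor_eq_add (A : Type u) (B : Type u) [CommRing A] [CommRing B]
    [IsNoetherianRing A] [IsNoetherianRing B] [IsLocalRing A] [IsLocalRing B] [Algebra A B]
    [IsLocalHom (algebraMap A B)] (M : Type v) [AddCommGroup M] [Module A M] [Module.Finite A M]
    [Nontrivial M] (N : Type v) [AddCommGroup N] [Module B N] [Module A N] [IsScalarTower A B N]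
    [Module.Finite B N] [Nontrivial N] [Module.Flat A N] :
    Module.supportDim B (N ⊗[A] M) = Module.supportDim A M +
      Module.supportDim B (N ⧸ (maximalIdeal A).map (algebraMap A B) • (⊤ : Submodule B N)) := by
  let I := Module.annihilator A M
  let K := Module.annihilator B N ⊔ I.map (algebraMap A B)
  have hI : I ≤ maximalIdeal A := le_maximalIdeal fun h =>
    not_subsingleton M (Module.annihilator_eq_top_iff.1 h)
  have hJ : Module.annihilator B N ≤ maximalIdeal B := le_maximalIdeal fun h =>
    not_subsingleton N (Module.annihilator_eq_top_iff.1 h)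
  have hK : K ≤ maximalIdeal B :=
    sup_le hJ ((Ideal.map_mono hI).trans (map_maximalIdeal_le (algebraMap A B)))
  have hsupp : Module.support B (N ⊗[A] M) = PrimeSpectrum.zeroLocus (K : Set B) := by
    rw [support_tensor A B N M, Module.support_eq_zeroLocus, Module.support_eq_zeroLocus,
      PrimeSpectrum.preimage_comap_zeroLocus, PrimeSpectrum.zeroLocus_sup, Ideal.map,
      PrimeSpectrum.zeroLocus_span]
  letI : Algebra (A ⧸ I) (B ⧸ K) := (Ideal.quotientMap K (algebraMap A B)
    (Ideal.map_le_iff_le_comap.1 le_sup_right)).toAlgebra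
  haveI : Nontrivial (A ⧸ I) :=
    Ideal.Quotient.nontrivial_iff.2 (ne_top_of_le_ne_top Ideal.IsPrime.ne_top' hI)
  haveI : Nontrivial (B ⧸ K) :=
    Ideal.Quotient.nontrivial_iff.2 (ne_top_of_le_ne_top Ideal.IsPrime.ne_top' hK)
  haveI : IsLocalRing (A ⧸ I) :=
    IsLocalRing.of_surjective' (Ideal.Quotient.mk I) Ideal.Quotient.mk_surjective
  haveI : IsLocalRing (B ⧸ K) :=
    IsLocalRing.of_surjective' (Ideal.Quotient.mk K) Ideal.Quotient.mk_surjective
  have hsq : (algebraMap (A ⧸ I) (B ⧸ K)).comp (Ideal.Quotient.mk I) =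
      (Ideal.Quotient.mk K).comp (algebraMap A B) := RingHom.ext fun a => rfl
  haveI : IsLocalHom (algebraMap (A ⧸ I) (B ⧸ K)) := by
    refine ⟨fun x hx => ?_⟩
    obtain ⟨a, rfl⟩ := Ideal.Quotient.mk_surjective x
    rw [← RingHom.comp_apply, hsq, RingHom.comp_apply] at hx
    haveI : IsLocalHom (Ideal.Quotient.mk K) := .of_surjective _ Ideal.Quotient.mk_surjective
    exact ((isUnit_of_map_unit (algebraMap A B) a (isUnit_of_map_unit (Ideal.Quotient.mk K) _ hx))).map _
  haveI : Algebra.HasGoingDown (A ⧸ I) (B ⧸ K) := by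
    refine ⟨fun {p} _ Q _ hlt => ?_⟩
    let q : PrimeSpectrum B := PrimeSpectrum.comap (Ideal.Quotient.mk K) ⟨Q, inferInstance⟩
    have hKq : K ≤ q.asIdeal := fun x hx => by
      simp [q, Ideal.Quotient.eq_zero_iff_mem.2 hx]
    have hple : p.comap (Ideal.Quotient.mk I) ≤ q.asIdeal.comap (algebraMap A B) := fun a ha => by
      have := hlt.le ha
      rwa [Ideal.under_def, Ideal.mem_comap, ← RingHom.comp_apply, hsq] at this
    obtain ⟨q', hq', hq's, hq'c⟩ := exists_le_support_comap_eq N _ q
      (Module.mem_support_iff_of_finite.2 (le_sup_left.trans hKq)) hple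
    have hKq' : K ≤ q'.asIdeal := by
      refine sup_le (Module.mem_support_iff_of_finite.1 hq's) ?_
      rw [Ideal.map_le_iff_le_comap, hq'c]
      exact fun a ha => by simp [Ideal.Quotient.eq_zero_iff_mem.2 ha]
    refine ⟨q'.asIdeal.map (Ideal.Quotient.mk K), ?_,
      Ideal.map_isPrime_of_surjective Ideal.Quotient.mk_surjective (by rwa [Ideal.mk_ker]), ⟨?_⟩⟩
    · exact (Ideal.map_mono hq').trans Ideal.map_comap_le
    · apply Ideal.comap_injective_of_surjective _ Ideal.Quotient.mk_surjective
      rw [Ideal.under_def, Ideal.comap_comap, hsq, ← Ideal.comap_comap,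
        Ideal.comap_map_of_surjective' _ Ideal.Quotient.mk_surjective, Ideal.mk_ker,
        sup_eq_left.2 hKq', hq'c]
  rw [supportDim_eq_ringKrullDim_of_support_eq hsupp,
    Module.supportDim_eq_ringKrullDim_quotient_annihilator, ringKrullDim_eq_add_fibre (A ⧸ I) (B ⧸ K)]
  congr 1
  have hmap : (maximalIdeal (A ⧸ I)).map (algebraMap (A ⧸ I) (B ⧸ K)) =
      ((maximalIdeal A).map (algebraMap A B)).map (Ideal.Quotient.mk K) := by
    rw [Ideal.map_map, ← hsq, ← Ideal.map_map]
    congr 1
    exact (IsLocalRing.eq_maximalIdeal (Ideal.IsMaximal.map_of_surjective_of_ker_le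
      Ideal.Quotient.mk_surjective (by rwa [Ideal.mk_ker]))).symm
  rw [ringKrullDim_eq_of_ringEquiv ((Ideal.quotEquivOfEq hmap).trans
    (DoubleQuot.quotQuotEquivQuotSup K ((maximalIdeal A).map (algebraMap A B))))]
  refine (supportDim_eq_ringKrullDim_of_support_eq ?_).symm
  rw [Module.support_quotient, Module.support_eq_zeroLocus, ← PrimeSpectrum.zeroLocus_sup,
    sup_assoc, sup_eq_right.2 (Ideal.map_mono (f := algebraMap A B) hI)]

/-- The hypothesis "no component lies over the closed point" forces equality. -/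
theorem ringKrullDim_eq_add_fibre_of_no_component (A : Type u) (B : Type v) [CommRing A] [CommRing B]
    [IsNoetherianRing A] [IsNoetherianRing B] [IsLocalRing A] [IsLocalRing B] [Algebra A B]
    [IsLocalHom (algebraMap A B)]
    (h : ∀ p : Ideal A, p.IsPrime → p ≠ maximalIdeal A → ∀ q ∈ (p.map (algebraMap A B)).minimalPrimes,
      q.comap (algebraMap A B) ≠ maximalIdeal A) :
    ringKrullDim A + ringKrullDim (B ⧸ (maximalIdeal A).map (algebraMap A B)) ≤ ringKrullDim B := by
  haveI : FiniteRingKrullDim A := inferInstance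
  obtain ⟨n, hn⟩ : ∃ n : ℕ, ringKrullDim A ≤ n := by
    have h1 := ringKrullDim_le_spanFinrank_maximalIdeal A
    exact ⟨_, h1⟩
  induction n generalizing A B with
  | zero =>
    have h0 : ringKrullDim A = 0 := le_antisymm (by simpa using hn) ringKrullDim_nonneg_of_nontrivial
    rw [h0, zero_add]
    exact ringKrullDim_quotient_le _
  | succ n ih =>
    by_cases hle : ringKrullDim A ≤ n
    · exact ih A B h inferInstance hle
    have hpos : ¬ ringKrullDim A ≤ 0 := fun h0 => hle (h0.trans (by exact_mod_cast n.zero_le))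
    have hmin : maximalIdeal A ∉ minimalPrimes A := fun hm => hpos (by
      rw [← maximalIdeal_height_eq_ringKrullDim, Ideal.height_eq_zero_iff.2 hm]; rfl)
    let S : Set (Ideal A) :=
      minimalPrimes A ∪ (fun q => q.comap (algebraMap A B)) '' minimalPrimes B
    have hSfin : S.Finite := (minimalPrimes.finite_of_isNoetherianRing A).union
      ((minimalPrimes.finite_of_isNoetherianRing B).image _)
    have hSprime : ∀ P ∈ S, P.IsPrime := by
      rintro P (hP | ⟨q, hq, rfl⟩)
      · exact hP.1.1
      · exact hq.1.1.comap _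
    have hSne : ∀ P ∈ S, P ≠ maximalIdeal A := by
      rintro P (hP | ⟨q, hq, rfl⟩) heq
      · exact hmin (heq ▸ hP)
      · haveI := hq.1.1
        obtain ⟨p, hp, hpq⟩ := Ideal.exists_minimalPrimes_le (bot_le : (⊥ : Ideal A) ≤ q.comap (algebraMap A B))
        refine h p hp.1.1 (fun hpe => hmin (hpe ▸ hp)) q ⟨⟨hq.1.1, Ideal.map_le_iff_le_comap.2 hpq⟩,
          fun r hr hrq => hq.2 ⟨hr.1, bot_le⟩ hrq⟩ heq
    obtain ⟨x, hxm, hxS⟩ : ∃ x ∈ maximalIdeal A, ∀ P ∈ S, x ∉ P := by
      by_contra hcon
      push Not at hcon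
      have hsub : (maximalIdeal A : Set A) ⊆ ⋃ P ∈ (hSfin.toFinset : Set (Ideal A)), (P : Set A) := by
        intro x hx
        obtain ⟨P, hP, hxP⟩ := hcon x hx
        exact Set.mem_biUnion (by simpa using hP) hxP
      obtain ⟨P, hP, hle'⟩ := (Ideal.subset_union_prime ⊥ ⊥
        (fun P hP _ _ => hSprime P (by simpa using hP))).1 hsub
      have hP' : P ∈ S := by simpa using hP
      exact hSne P hP' ((maximalIdeal.isMaximal A).eq_of_le (hSprime P hP').ne_top hle').symm
    let I : Ideal A := Ideal.span {x}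
    let K : Ideal B := I.map (algebraMap A B)
    have hI : I ≤ maximalIdeal A := (Ideal.span_singleton_le_iff_mem _).2 hxm
    have hK : K ≤ maximalIdeal B := (Ideal.map_mono hI).trans (map_maximalIdeal_le (algebraMap A B))
    letI : Algebra (A ⧸ I) (B ⧸ K) := (Ideal.quotientMap K (algebraMap A B)
      (Ideal.map_le_iff_le_comap.1 le_rfl)).toAlgebra
    haveI : Nontrivial (A ⧸ I) :=
      Ideal.Quotient.nontrivial_iff.2 (ne_top_of_le_ne_top Ideal.IsPrime.ne_top' hI)
    haveI : Nontrivial (B ⧸ K) :=
      Ideal.Quotient.nontrivial_iff.2 (ne_top_of_le_ne_top Ideal.IsPrime.ne_top' hK)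
    haveI : IsLocalRing (A ⧸ I) :=
      IsLocalRing.of_surjective' (Ideal.Quotient.mk I) Ideal.Quotient.mk_surjective
    haveI : IsLocalRing (B ⧸ K) :=
      IsLocalRing.of_surjective' (Ideal.Quotient.mk K) Ideal.Quotient.mk_surjective
    have hsq : (algebraMap (A ⧸ I) (B ⧸ K)).comp (Ideal.Quotient.mk I) =
        (Ideal.Quotient.mk K).comp (algebraMap A B) := RingHom.ext fun a => rfl
    haveI : IsLocalHom (algebraMap (A ⧸ I) (B ⧸ K)) := by
      refine ⟨fun y hy => ?_⟩
      obtain ⟨a, rfl⟩ := Ideal.Quotient.mk_surjective y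
      rw [← RingHom.comp_apply, hsq, RingHom.comp_apply] at hy
      haveI : IsLocalHom (Ideal.Quotient.mk K) := .of_surjective _ Ideal.Quotient.mk_surjective
      exact (isUnit_of_map_unit (algebraMap A B) a (isUnit_of_map_unit (Ideal.Quotient.mk K) _ hy)).map _
    have hmaxA : maximalIdeal (A ⧸ I) = (maximalIdeal A).map (Ideal.Quotient.mk I) :=
      (IsLocalRing.eq_maximalIdeal (Ideal.IsMaximal.map_of_surjective_of_ker_le
        Ideal.Quotient.mk_surjective (by rwa [Ideal.mk_ker]))).symm
    have hA : ringKrullDim (A ⧸ I) + 1 = ringKrullDim A := by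
      refine le_antisymm ?_ ?_
      · have := Module.supportDim_quotSMulTop_succ_le_of_notMem_minimalPrimes (M := A) (x := x) (fun P hP => by
          refine hxS P (Or.inl ?_)
          rwa [Module.annihilator_eq_bot.2 inferInstance] at hP)
        rw [Module.supportDim_self_eq_ringKrullDim] at this
        refine le_trans (le_of_eq ?_) this
        congr 1
        rw [supportDim_eq_ringKrullDim_of_support_eq (J := I)]
        rw [Module.support_quotSMulTop, Module.support_eq_zeroLocus,
          Module.annihilator_eq_bot.2 inferInstance, PrimeSpectrum.zeroLocus_span]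
        simp
      · have := ringKrullDim_le_ringKrullDim_quotient_add_card ({x} : Finset A)
          (by simpa [IsLocalRing.ringJacobson_eq_maximalIdeal] using hxm)
        rw [Finset.coe_singleton, Finset.card_singleton, Nat.cast_one] at this; exact this
    have hB : ringKrullDim (B ⧸ K) + 1 ≤ ringKrullDim B := by
      have := Module.supportDim_quotSMulTop_succ_le_of_notMem_minimalPrimes (M := B)
        (x := algebraMap A B x) (fun P hP => by
          rw [Module.annihilator_eq_bot.2 inferInstance] at hP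
          exact fun hxP => hxS _ (Or.inr ⟨P, hP, rfl⟩) hxP)
      rw [Module.supportDim_self_eq_ringKrullDim] at this
      refine le_trans (le_of_eq ?_) this
      congr 1
      rw [supportDim_eq_ringKrullDim_of_support_eq (J := K)]
      rw [Module.support_quotSMulTop, Module.support_eq_zeroLocus,
        Module.annihilator_eq_bot.2 inferInstance]
      simp [K, I, Ideal.map_span, PrimeSpectrum.zeroLocus_span]
    have hn' : ringKrullDim (A ⧸ I) ≤ n := by
      haveI : FiniteRingKrullDim (A ⧸ I) := inferInstance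
      have h' : ringKrullDim (A ⧸ I) + ((1 : ℕ) : WithBot ℕ∞) ≤ (n : WithBot ℕ∞) + ((1 : ℕ) : WithBot ℕ∞) := by
        rw [Nat.cast_one, hA]; exact_mod_cast hn
      exact ENat.WithBot.add_le_add_natCast_right_iff.1 h'
    have hh : ∀ p : Ideal (A ⧸ I), p.IsPrime → p ≠ maximalIdeal (A ⧸ I) →
        ∀ q ∈ (p.map (algebraMap (A ⧸ I) (B ⧸ K))).minimalPrimes,
          q.comap (algebraMap (A ⧸ I) (B ⧸ K)) ≠ maximalIdeal (A ⧸ I) := by
      intro p hp hpne q hq hqm
      haveI := hq.1.1
      refine h (p.comap (Ideal.Quotient.mk I)) (hp.comap _) (fun he => hpne ?_)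
        (q.comap (Ideal.Quotient.mk K)) ?_ ?_
      · rw [hmaxA, ← he, Ideal.map_comap_of_surjective _ Ideal.Quotient.mk_surjective]
      · refine ⟨⟨inferInstance, ?_⟩, fun r hr hrq => ?_⟩
        · rw [Ideal.map_le_iff_le_comap, Ideal.comap_comap, ← hsq, ← Ideal.comap_comap]
          exact Ideal.comap_mono (Ideal.map_le_iff_le_comap.1 hq.1.2)
        · haveI := hr.1
          have hKr : K ≤ r := le_trans (Ideal.map_mono fun a ha => by
            simp [Ideal.Quotient.eq_zero_iff_mem.2 ha]) hr.2
          have hrmap : (r.map (Ideal.Quotient.mk K)).comap (Ideal.Quotient.mk K) = r := by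
            rw [Ideal.comap_map_of_surjective' _ Ideal.Quotient.mk_surjective, Ideal.mk_ker,
              sup_eq_left.2 hKr]
          have := hq.2 ⟨Ideal.map_isPrime_of_surjective Ideal.Quotient.mk_surjective
              (by rwa [Ideal.mk_ker]), ?_⟩ ((Ideal.map_mono hrq).trans Ideal.map_comap_le)
          · rw [← hrmap]; exact Ideal.comap_mono this
          · rw [← Ideal.map_comap_of_surjective _ Ideal.Quotient.mk_surjective p, Ideal.map_map,
              hsq, ← Ideal.map_map]
            exact Ideal.map_mono hr.2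
      · rw [Ideal.comap_comap, ← hsq, ← Ideal.comap_comap, hqm, hmaxA,
          Ideal.comap_map_of_surjective' _ Ideal.Quotient.mk_surjective, Ideal.mk_ker,
          sup_eq_left.2 hI]
    have key := ih (A ⧸ I) (B ⧸ K) hh inferInstance hn'
    have hfib : ringKrullDim ((B ⧸ K) ⧸ (maximalIdeal (A ⧸ I)).map (algebraMap (A ⧸ I) (B ⧸ K))) =
        ringKrullDim (B ⧸ (maximalIdeal A).map (algebraMap A B)) := by
      apply ringKrullDim_eq_of_ringEquiv
      refine (Ideal.quotEquivOfEq ?_).trans ((DoubleQuot.quotQuotEquivQuotSup K _).trans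
        (Ideal.quotEquivOfEq (sup_eq_right.2 (Ideal.map_mono hI))))
      rw [hmaxA, Ideal.map_map, hsq, ← Ideal.map_map]
    rw [hfib] at key
    calc ringKrullDim A + ringKrullDim (B ⧸ (maximalIdeal A).map (algebraMap A B))
        = (ringKrullDim (A ⧸ I) + ringKrullDim (B ⧸ (maximalIdeal A).map (algebraMap A B))) + 1 := by
          rw [← hA]; abel
      _ ≤ ringKrullDim (B ⧸ K) + 1 := add_le_add_left key 1
      _ ≤ ringKrullDim B := hB

end Groth.Agent.Dim
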