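import Mathlib.RingTheory.KrullDimension.Module
import Mathlib.RingTheory.Spectrum.Prime.Module
import Mathlib.RingTheory.LocalRing.Module
import Mathlib.RingTheory.LocalRing.ResidueField.Fiber
import Mathlib.RingTheory.Flat.FaithfullyFlat.Basic

/-!
# Supports and their dimensions

* `supportDim_eq_ringKrullDim_of_support_eq`: a module supported on `V(J)` has dimension `dim A/J`.
* `supportDim_of_surjective`: the dimension of a module does not change along a ring surjection.
* `support_tensor`: `Supp_B (N ⊗_A M) = Supp_B N ∩ (comap ⁻¹ Supp_A M)` for finite modules.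
-/

set_option autoImplicit false
set_option linter.style.haveILetI false

open TensorProduct

namespace Groth.Agent.Dim

universe u v w

theorem supportDim_eq_ringKrullDim_of_support_eq {A : Type u} [CommRing A] {M : Type v}
    [AddCommGroup M] [Module A M] {J : Ideal A}
    (h : Module.support A M = PrimeSpectrum.zeroLocus (J : Set A)) :
    Module.supportDim A M = ringKrullDim (A ⧸ J) := by
  rw [Module.supportDim, h, ringKrullDim_quotient]

theorem supportDim_eq_of_support_eq {A : Type u} [CommRing A] {M : Type v} {M' : Type w}
    [AddCommGroup M] [Module A M] [AddCommGroup M'] [Module A M']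
    (h : Module.support A M = Module.support A M') :
    Module.supportDim A M = Module.supportDim A M' := by
  rw [Module.supportDim, Module.supportDim, h]

/-- The dimension of a module is unchanged when scalars are restricted along a surjection. -/
theorem supportDim_of_surjective (A : Type u) (C : Type v) (M : Type w) [CommRing A] [CommRing C]
    [Algebra A C] [AddCommGroup M] [Module A M] [Module C M] [IsScalarTower A C M]
    (hs : Function.Surjective (algebraMap A C)) [Module.Finite C M] :
    Module.supportDim A M = Module.supportDim C M := by
  haveI : Module.Finite A C := Module.Finite.of_surjective (Algebra.linearMap A C) hs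
  haveI : Module.Finite A M := Module.Finite.trans C M
  rw [Module.supportDim_eq_ringKrullDim_quotient_annihilator,
    Module.supportDim_eq_ringKrullDim_quotient_annihilator]
  refine ringKrullDim_eq_of_ringEquiv (RingEquiv.ofBijective
    (Ideal.Quotient.lift (Module.annihilator A M) ((Ideal.Quotient.mk (Module.annihilator C M)).comp
      (algebraMap A C)) ?_) ⟨?_, ?_⟩)
  · intro a ha
    rw [RingHom.comp_apply, Ideal.Quotient.eq_zero_iff_mem]
    exact Module.mem_annihilator.2 fun m => by
      rw [algebraMap_smul]; exact Module.mem_annihilator.1 ha m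
  · rw [injective_iff_map_eq_zero]
    intro x hx
    obtain ⟨a, rfl⟩ := Ideal.Quotient.mk_surjective x
    rw [Ideal.Quotient.lift_mk, RingHom.comp_apply, Ideal.Quotient.eq_zero_iff_mem] at hx
    have ha := hx
    rw [Ideal.Quotient.eq_zero_iff_mem]
    exact Module.mem_annihilator.2 fun m => by
      rw [← algebraMap_smul C]; exact Module.mem_annihilator.1 ha m
  · exact Ideal.Quotient.lift_surjective_of_surjective _ _ (Ideal.Quotient.mk_surjective.comp hs)

/-- Support of a base change, pointwise. -/
theorem nontrivial_residueField_tensor_iff {A : Type u} {B : Type u} [CommRing A] [CommRing B]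
    [Algebra A B] (M : Type w) [AddCommGroup M] [Module A M] [Module.Finite A M]
    (q : PrimeSpectrum B) :
    Nontrivial (q.asIdeal.ResidueField ⊗[A] M) ↔
      PrimeSpectrum.comap (algebraMap A B) q ∈ Module.support A M := by
  let p : PrimeSpectrum A := PrimeSpectrum.comap (algebraMap A B) q
  letI : Algebra p.asIdeal.ResidueField q.asIdeal.ResidueField :=
    (Ideal.ResidueField.map p.asIdeal q.asIdeal (algebraMap A B) rfl).toAlgebra
  haveI : IsScalarTower A p.asIdeal.ResidueField q.asIdeal.ResidueField :=
    IsScalarTower.of_algebraMap_eq fun a => by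
      rw [RingHom.algebraMap_toAlgebra, IsScalarTower.algebraMap_apply A B q.asIdeal.ResidueField]
      exact (Ideal.ResidueField.map_algebraMap _ _ _ _ _).symm
  rw [Module.mem_support_iff_nontrivial_residueField_tensorProduct,
    ← (AlgebraTensorModule.cancelBaseChange A p.asIdeal.ResidueField p.asIdeal.ResidueField
      q.asIdeal.ResidueField M).toEquiv.nontrivial_congr]
  exact (Module.FaithfullyFlat.nontrivial_tensorProduct_iff_right p.asIdeal.ResidueField
    q.asIdeal.ResidueField (N := p.asIdeal.ResidueField ⊗[A] M))

/-- `Supp_B (N ⊗_A M) = Supp_B N ∩ comap ⁻¹ (Supp_A M)`. -/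
theorem support_tensor (A : Type u) (B : Type u) [CommRing A] [CommRing B] [Algebra A B]
    (N : Type v) [AddCommGroup N] [Module A N] [Module B N] [IsScalarTower A B N] [Module.Finite B N]
    (M : Type w) [AddCommGroup M] [Module A M] [Module.Finite A M] :
    Module.support B (N ⊗[A] M) =
      Module.support B N ∩ PrimeSpectrum.comap (algebraMap A B) ⁻¹' Module.support A M := by
  haveI : Module.Finite B (N ⊗[A] M) :=
    Module.Finite.equiv (AlgebraTensorModule.cancelBaseChange A B B N M)
  ext q
  let K := q.asIdeal.ResidueField
  rw [Set.mem_inter_iff, Set.mem_preimage, ← nontrivial_residueField_tensor_iff M q,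
    Module.mem_support_iff_nontrivial_residueField_tensorProduct,
    Module.mem_support_iff_nontrivial_residueField_tensorProduct (M := N),
    ← (AlgebraTensorModule.assoc A B K K N M).toEquiv.nontrivial_congr,
    ← (AlgebraTensorModule.cancelBaseChange A K K (K ⊗[B] N) M).toEquiv.nontrivial_congr]
  constructor
  · intro h
    constructor
    · by_contra hs; rw [not_nontrivial_iff_subsingleton] at hs
      exact not_subsingleton ((K ⊗[B] N) ⊗[K] (K ⊗[A] M)) inferInstance
    · by_contra hs; rw [not_nontrivial_iff_subsingleton] at hs
      exact not_subsingleton ((K ⊗[B] N) ⊗[K] (K ⊗[A] M)) inferInstance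
  · rintro ⟨h1, h2⟩
    exact (Module.FaithfullyFlat.nontrivial_tensorProduct_iff_right K (K ⊗[B] N)).2 h2

end Groth.Agent.Dim
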