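import Groth.Agent.Dim.Support
import Mathlib.RingTheory.Localization.AtPrime.Basic
import Mathlib.RingTheory.Localization.BaseChange
import Mathlib.Algebra.Module.LocalizedModule.Basic
import Mathlib.RingTheory.Spectrum.Prime.Basic

/-!
# Support and dimension of localized modules

* `support_localizedModule`: `Supp (S⁻¹M) = comap ⁻¹ Supp M`.
* `supportDim_atPrime`: `dim M_p = krullDim {P ∈ Supp M | P ≤ p}`.
-/

set_option autoImplicit false
set_option linter.style.haveILetI false

open TensorProduct

namespace Groth.Agent.Dim

universe u v

theorem support_localizedModule {A : Type u} [CommRing A] (S : Submonoid A) (M : Type v)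
    [AddCommGroup M] [Module A M] [Module.Finite A M] :
    Module.support (Localization S) (LocalizedModule S M) =
      PrimeSpectrum.comap (algebraMap A (Localization S)) ⁻¹' Module.support A M := by
  rw [(LocalizedModule.equivTensorProduct S M).support_eq, support_tensor A (Localization S)]
  ext q
  simp [Module.mem_support_iff_of_finite,
    Module.annihilator_eq_bot.2 (inferInstance : FaithfulSMul (Localization S) (Localization S))]

/-- `dim M_p` is the dimension of the set of primes of the support below `p`. -/
theorem supportDim_atPrime {A : Type u} [CommRing A] (M : Type v) [AddCommGroup M] [Module A M]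
    [Module.Finite A M] (p : Ideal A) [p.IsPrime] :
    Module.supportDim (Localization.AtPrime p) (LocalizedModule p.primeCompl M) =
      Order.krullDim {P : PrimeSpectrum A // P ∈ Module.support A M ∧ P.asIdeal ≤ p} := by
  rw [Module.supportDim, support_localizedModule]
  let e := IsLocalization.AtPrime.primeSpectrumOrderIso (Localization.AtPrime p) p
  have hc : ∀ q, ((e q : Set.Iic (⟨p, inferInstance⟩ : PrimeSpectrum A)) : PrimeSpectrum A) =
      PrimeSpectrum.comap (algebraMap A (Localization.AtPrime p)) q := fun q => rfl
  refine Order.krullDim_eq_of_orderIso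
    { toFun := fun q => ⟨(e q.1).1, (hc q.1).symm ▸ q.2, (e q.1).2⟩
      invFun := fun P => ⟨e.symm ⟨P.1, P.2.2⟩, ?_⟩
      left_inv := fun q => Subtype.ext (e.symm_apply_apply q.1)
      right_inv := fun P => by simp
      map_rel_iff' := fun {a b} => e.le_iff_le }
  show PrimeSpectrum.comap (algebraMap A (Localization.AtPrime p)) _ ∈ Module.support A M
  rw [← hc, OrderIso.apply_symm_apply]
  exact P.2.1

theorem supportDim_atPrime_mono {A : Type u} [CommRing A] (M : Type v) [AddCommGroup M] [Module A M]
    [Module.Finite A M] {p q : Ideal A} [p.IsPrime] [q.IsPrime] (hpq : p ≤ q) :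
    Module.supportDim (Localization.AtPrime p) (LocalizedModule p.primeCompl M) ≤
      Module.supportDim (Localization.AtPrime q) (LocalizedModule q.primeCompl M) := by
  rw [supportDim_atPrime, supportDim_atPrime]
  exact Order.krullDim_le_of_strictMono (fun P => ⟨P.1, P.2.1, P.2.2.trans hpq⟩) fun _ _ h => h

end Groth.Agent.Dim
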