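import Mathlib.AlgebraicGeometry.Noetherian
import Mathlib.Topology.Constructible
import Mathlib.RingTheory.Ideal.KrullsHeightTheorem
import Mathlib.RingTheory.KrullDimension.Basic
import Mathlib.Topology.KrullDimension

/-!
# Locally closed points and closed points of locally Noetherian schemes (EGA IV 10.5.9)
-/

set_option autoImplicit false
set_option linter.style.haveILetI false

open AlgebraicGeometry TopologicalSpace CategoryTheory

namespace Groth.Agent.Dim

universe u

/-- In a Noetherian domain whose zero ideal is an isolated point, every nonzero prime is maximal. -/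
theorem isMaximal_of_forall_prime_mem {R : Type u} [CommRing R] [IsDomain R] [IsNoetherianRing R]
    {f : R} (hf : f ≠ 0) (h : ∀ Q : Ideal R, Q.IsPrime → Q ≠ ⊥ → f ∈ Q) (Q : Ideal R) [Q.IsPrime]
    (hQ : Q ≠ ⊥) : Q.IsMaximal := by
  obtain ⟨M, hM, hQM⟩ := Q.exists_le_maximal Ideal.IsPrime.ne_top'
  rcases hQM.eq_or_lt with rfl | hlt
  · exact hM
  · exfalso
    have hS := Ideal.finite_minimalPrimes_of_isNoetherianRing R (Ideal.span {f})
    set T : Set (Ideal R) := {P | P ∈ (Ideal.span {f}).minimalPrimes ∧ P.height ≤ 1} with hT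
    have hTfin : T.Finite := hS.subset fun P hP => hP.1
    have hMT : ∀ P ∈ T, ¬ M ≤ P := by
      intro P hP hMP
      haveI := hP.1.1.1
      have h1 : Q.height ≠ 0 := fun h0 => hQ (Ideal.height_eq_zero_iff_eq_bot.1 h0)
      have h2 := Ideal.height_add_one_le_of_lt_of_isPrime hlt
      have h3 := Ideal.height_mono hMP
      have h4 : (1 : ℕ∞) ≤ Q.height := Order.one_le_iff_pos.2 (pos_iff_ne_zero.2 h1)
      have : (2 : ℕ∞) ≤ 1 := by
        calc (2 : ℕ∞) = 1 + 1 := rfl
          _ ≤ Q.height + 1 := add_le_add_left h4 1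
          _ ≤ M.height := h2
          _ ≤ P.height := h3
          _ ≤ 1 := hP.2
      exact absurd this (by decide)
    obtain ⟨g, hgM, hgT⟩ : ∃ g ∈ M, ∀ P ∈ T, g ∉ P := by
      by_contra hcon
      push Not at hcon
      have hsub : (M : Set R) ⊆ ⋃ P ∈ (hTfin.toFinset : Set (Ideal R)), (P : Set R) := by
        intro x hx
        obtain ⟨P, hP, hxP⟩ := hcon x hx
        exact Set.mem_biUnion (by simpa using hP) hxP
      obtain ⟨P, hP, hle⟩ := (Ideal.subset_union_prime ⊥ ⊥
        (fun P hP _ _ => (show P ∈ T by simpa using hP).1.1.1)).1 hsub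
      exact hMT P (by simpa using hP) hle
    obtain ⟨P, hP, -⟩ := Ideal.exists_minimalPrimes_le (I := Ideal.span {g}) (J := M)
      ((Ideal.span_singleton_le_iff_mem _).2 hgM)
    haveI := hP.1.1
    have hgP : g ∈ P := hP.1.2 (Ideal.mem_span_singleton_self g)
    have hP0 : P ≠ ⊥ := by
      intro h0
      rw [h0, Ideal.mem_bot] at hgP
      subst hgP
      have h0T : (⊥ : Ideal R).IsPrime := Ideal.isPrime_bot
      obtain ⟨P', hP', -⟩ := Ideal.exists_minimalPrimes_le (I := Ideal.span {f}) (J := M)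
        ((Ideal.span_singleton_le_iff_mem _).2 (h M hM.isPrime (fun hb => hQ (eq_bot_iff.2 (hb ▸ hQM)))))
      haveI := hP'.1.1
      exact hgT P' ⟨hP', Ideal.height_le_one_of_isPrincipal_of_mem_minimalPrimes _ _ hP'⟩
        (zero_mem _)
    have hht : P.height ≤ 1 := Ideal.height_le_one_of_isPrincipal_of_mem_minimalPrimes _ _ hP
    refine hgT P ⟨⟨⟨hP.1.1, (Ideal.span_singleton_le_iff_mem _).2 (h P hP.1.1 hP0)⟩, ?_⟩, hht⟩ hgP
    intro P' hP' hle
    haveI := hP'.1
    by_contra hne
    have hlt' : P' < P := lt_of_le_not_ge hle hne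
    have h0 : P'.height = 0 := by
      have := Ideal.height_add_one_le_of_lt_of_isPrime hlt'
      have h5 : P'.height + 1 ≤ 0 + 1 := by simpa using this.trans hht
      exact le_antisymm ((ENat.add_le_add_iff_right ENat.one_ne_top).1 h5) bot_le
    have : f ∈ P' := hP'.2 (Ideal.mem_span_singleton_self f)
    rw [Ideal.height_eq_zero_iff_eq_bot.1 h0] at this
    exact hf this

theorem isClosed_singleton_of_forall_specializes {X : Type u} [TopologicalSpace X] {x : X}
    (h : ∀ z, x ⤳ z → z = x) : IsClosed ({x} : Set X) := by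
  have : closure ({x} : Set X) = {x} := by
    refine le_antisymm (fun z hz => h z ?_) subset_closure
    rwa [specializes_iff_mem_closure]
  rw [← this]; exact isClosed_closure

/-- A locally closed point of a locally Noetherian scheme: all other points of its closure are closed. -/
theorem isClosed_singleton_of_mem_closure {X : Scheme.{u}} [IsLocallyNoetherian X] {x y : X}
    (hx : IsLocallyClosed ({x} : Set X)) (hy : y ∈ closure ({x} : Set X)) (hne : y ≠ x) :
    IsClosed ({y} : Set X) := by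
  refine isClosed_singleton_of_forall_specializes fun z hz => ?_
  have hxy : x ⤳ y := specializes_iff_mem_closure.2 hy
  obtain ⟨W, hW, hzW, -⟩ := exists_isAffineOpen_mem_and_subset (X := X) (x := z) (U := ⊤) trivial
  haveI : IsNoetherianRing Γ(X, W) := IsLocallyNoetherian.component_noetherian ⟨W, hW⟩
  have hemb : Topology.IsInducing hW.fromSpec := hW.fromSpec.isOpenEmbedding.isInducing
  have hinj : Function.Injective hW.fromSpec := hW.fromSpec.isOpenEmbedding.injective
  have hyW : y ∈ W := hz.mem_open W.2 hzW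
  have hxW : x ∈ W := hxy.mem_open W.2 hyW
  have hrange := hW.range_fromSpec
  obtain ⟨P, rfl⟩ : ∃ T : PrimeSpectrum Γ(X, W), hW.fromSpec T = x := by
    show x ∈ Set.range hW.fromSpec
    rw [hrange]; exact hxW
  obtain ⟨Q, rfl⟩ : ∃ T : PrimeSpectrum Γ(X, W), hW.fromSpec T = y := by
    show y ∈ Set.range hW.fromSpec
    rw [hrange]; exact hyW
  obtain ⟨R, rfl⟩ : ∃ T : PrimeSpectrum Γ(X, W), hW.fromSpec T = z := by
    show z ∈ Set.range hW.fromSpec
    rw [hrange]; exact hzW
  replace hxy := (PrimeSpectrum.le_iff_specializes P Q).2 (hemb.specializes_iff.1 hxy)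
  replace hz := (PrimeSpectrum.le_iff_specializes Q R).2 (hemb.specializes_iff.1 hz)
  have hP : IsLocallyClosed ({P} : Set (PrimeSpectrum Γ(X, W))) := by
    have h1 := hx.preimage hW.fromSpec.continuous
    have h2 : hW.fromSpec ⁻¹' {hW.fromSpec P} = ({P} : Set (PrimeSpectrum Γ(X, W))) :=
      Set.ext fun T => ⟨fun h => hinj h, fun h => congrArg _ h⟩
    exact h2 ▸ h1
  obtain ⟨O, C, hO, hC, hOC⟩ := hP
  have hPO : P ∈ O := (hOC ▸ Set.mem_singleton P : P ∈ O ∩ C).1
  have hPC : P ∈ C := (hOC ▸ Set.mem_singleton P : P ∈ O ∩ C).2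
  obtain ⟨_, ⟨f, rfl⟩, hPf, hfO⟩ :=
    PrimeSpectrum.isTopologicalBasis_basic_opens.exists_subset_of_mem_open hPO hO
  have hbig : ∀ T : PrimeSpectrum Γ(X, W), P ≤ T → T ≠ P → f ∈ T.asIdeal := by
    intro T hPT hTP
    by_contra hfT
    refine hTP (show T ∈ ({P} : Set _) from hOC ▸ ⟨hfO hfT, ?_⟩)
    exact ((PrimeSpectrum.le_iff_specializes _ _).1 hPT).mem_closed hC hPC
  have hPQ : P.asIdeal < Q.asIdeal :=
    lt_of_le_of_ne hxy fun h => hne (congrArg _ (PrimeSpectrum.ext h.symm))
  let π := Ideal.Quotient.mk P.asIdeal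
  haveI : (Q.asIdeal.map π).IsPrime :=
    Ideal.map_isPrime_of_surjective Ideal.Quotient.mk_surjective (by rw [Ideal.mk_ker]; exact hPQ.le)
  have hQ0 : Q.asIdeal.map π ≠ ⊥ := by
    intro h0
    rw [Ideal.map_eq_bot_iff_le_ker, Ideal.mk_ker] at h0
    exact hPQ.not_ge h0
  haveI hmax : (Q.asIdeal.map π).IsMaximal := by
    refine isMaximal_of_forall_prime_mem (f := π f) ?_ ?_ _ hQ0
    · rw [Ne, Ideal.Quotient.eq_zero_iff_mem]; exact hPf
    · intro T hT hT0
      have hle : P.asIdeal ≤ T.comap π := fun a ha => by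
        simp [π, Ideal.Quotient.eq_zero_iff_mem.2 ha]
      refine hbig ⟨T.comap π, inferInstance⟩ hle fun h => hT0 ?_
      rw [← Ideal.map_comap_of_surjective π Ideal.Quotient.mk_surjective T,
        show T.comap π = P.asIdeal from congrArg PrimeSpectrum.asIdeal h, Ideal.map_quotient_self]
  have hQmax : Q.asIdeal.IsMaximal := by
    have := Ideal.comap_isMaximal_of_surjective π Ideal.Quotient.mk_surjective (K := Q.asIdeal.map π)
    rwa [Ideal.comap_map_of_surjective' _ Ideal.Quotient.mk_surjective, Ideal.mk_ker,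
      sup_eq_left.2 hPQ.le] at this
  exact congrArg _ (PrimeSpectrum.ext (hQmax.eq_of_le R.2.ne_top hz).symm)

theorem topologicalKrullDim_closure_le_one {X : Scheme.{u}} [IsLocallyNoetherian X] {x : X}
    (hx : IsLocallyClosed ({x} : Set X)) : topologicalKrullDim (closure ({x} : Set X)) ≤ 1 := by
  haveI : QuasiSober (closure ({x} : Set X)) := isClosed_closure.isClosedEmbedding_subtypeVal.quasiSober
  refine Order.krullDim_le_one_iff.2 fun Z => ?_
  have hg := Z.isIrreducible.isGenericPoint_genericPoint Z.isClosed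
  by_cases hgx : (Z.isIrreducible.genericPoint : X) = x
  · right
    intro Z' _
    show (Z' : Set (closure ({x} : Set X))) ⊆ Z
    intro w _
    refine (hg.specializes_iff_mem).1 ((subtype_specializes_iff _ _).2 ?_)
    rw [hgx, specializes_iff_mem_closure]
    exact w.2
  · left
    intro Z' hle
    show (Z : Set (closure ({x} : Set X))) ⊆ Z'
    intro w hw
    have hc := isClosed_singleton_of_mem_closure hx Z.isIrreducible.genericPoint.2 hgx
    have heq : ∀ v : closure ({x} : Set X), v ∈ (Z : Set (closure ({x} : Set X))) → v = Z.isIrreducible.genericPoint := by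
      intro v hv
      exact Subtype.ext (((hg.specializes hv).map continuous_subtype_val).mem_closed hc (Set.mem_singleton _))
    obtain ⟨v, hv⟩ := Z'.isIrreducible.nonempty
    rw [heq w hw, ← heq v (hle hv)]
    exact hv

/-- Every nonempty locally closed subset of a scheme contains a locally closed point. -/
theorem exists_isLocallyClosed_singleton {X : Scheme.{u}} {L : Set X} (hL : IsLocallyClosed L)
    (hne : L.Nonempty) : ∃ x ∈ L, IsLocallyClosed ({x} : Set X) := by
  obtain ⟨O, C, hO, hC, rfl⟩ := hL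
  obtain ⟨y, hyO, hyC⟩ := hne
  obtain ⟨W, hW, hyW, hWO⟩ := exists_isAffineOpen_mem_and_subset (X := X) (x := y) (U := ⟨O, hO⟩) hyO
  haveI : CompactSpace (W : Set X) := isCompact_iff_compactSpace.1 hW.isCompact
  obtain ⟨x, hx, hxc⟩ := (hC.preimage (continuous_subtype_val (p := fun z => z ∈ (W : Set X)))).exists_closed_singleton
    ⟨⟨y, hyW⟩, hyC⟩
  refine ⟨x.1, ⟨hWO x.2, hx⟩, W, closure {x.1}, W.2, isClosed_closure, ?_⟩
  refine le_antisymm (Set.singleton_subset_iff.2 ⟨x.2, subset_closure rfl⟩) ?_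
  rintro z ⟨hzW, hz⟩
  have : x ⤳ (⟨z, hzW⟩ : W) := (subtype_specializes_iff _ _).2 (specializes_iff_mem_closure.2 hz)
  exact congrArg Subtype.val (this.mem_closed (s := ({x} : Set (W : Set X))) hxc rfl)

theorem exists_isClosed_singleton {X : Scheme.{u}} [IsLocallyNoetherian X] {Z : Set X}
    (hZ : IsClosed Z) (hne : Z.Nonempty) : ∃ x ∈ Z, IsClosed ({x} : Set X) := by
  obtain ⟨x, hxZ, hx⟩ := exists_isLocallyClosed_singleton hZ.isLocallyClosed hne
  by_cases hc : IsClosed ({x} : Set X)
  · exact ⟨x, hxZ, hc⟩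
  · obtain ⟨y, hy, hne'⟩ : ∃ y ∈ closure ({x} : Set X), y ≠ x := by
      by_contra hcon
      push Not at hcon
      exact hc (closure_subset_iff_isClosed.1 hcon)
    exact ⟨y, closure_minimal (Set.singleton_subset_iff.2 hxZ) hZ hy,
      isClosed_singleton_of_mem_closure hx hy hne'⟩

theorem exists_isLocallyClosed_subset_or {X : Type u} [TopologicalSpace X] {s : Set X}
    (hs : Topology.IsConstructible s) (x : X) :
    ∃ L : Set X, IsLocallyClosed L ∧ x ∈ L ∧ (L ⊆ s ∨ L ⊆ sᶜ) := by
  induction hs using Topology.IsConstructible.empty_union_induction generalizing x with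
  | open_retrocompact U hU _ =>
    by_cases hx : x ∈ U
    · exact ⟨U, hU.isLocallyClosed, hx, Or.inl le_rfl⟩
    · exact ⟨Uᶜ, hU.isClosed_compl.isLocallyClosed, hx, Or.inr le_rfl⟩
  | union s hs t ht ih₁ ih₂ =>
    obtain ⟨L, hL, hxL, hL'⟩ := ih₁ x
    obtain ⟨M, hM, hxM, hM'⟩ := ih₂ x
    refine ⟨L ∩ M, hL.inter hM, ⟨hxL, hxM⟩, ?_⟩
    rcases hL' with h | h
    · exact Or.inl fun z hz => Or.inl (h hz.1)
    · rcases hM' with h' | h'
      · exact Or.inl fun z hz => Or.inr (h' hz.2)
      · exact Or.inr fun z hz h'' => h''.elim (h hz.1) (h' hz.2)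
  | compl s hs ih =>
    obtain ⟨L, hL, hxL, hL'⟩ := ih x
    exact ⟨L, hL, hxL, hL'.symm.imp id (fun h => by rwa [compl_compl])⟩

theorem exists_isLocallyClosed_singleton_of_isLocallyConstructible {X : Scheme.{u}} {E : Set X}
    (hE : Topology.IsLocallyConstructible E) (hne : E.Nonempty) :
    ∃ x ∈ E, IsLocallyClosed ({x} : Set X) := by
  obtain ⟨x, hx⟩ := hne
  obtain ⟨U, hUn, hU, hUc⟩ := hE x
  have hxU := mem_of_mem_nhds hUn
  obtain ⟨L, hL, hxL, hL'⟩ := exists_isLocallyClosed_subset_or hUc ⟨x, hxU⟩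
  have hLs : L ⊆ Subtype.val ⁻¹' E := hL'.resolve_right fun h => h hxL hx
  obtain ⟨z, ⟨w, hw, hwz⟩, hz⟩ := exists_isLocallyClosed_singleton
    (hL.image Topology.IsInducing.subtypeVal (by simpa using hU.isLocallyClosed)) ⟨x, ⟨x, hxU⟩, hxL, rfl⟩
  exact ⟨z, hwz ▸ hLs hw, hz⟩

end Groth.Agent.Dim
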