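import Mathlib.RingTheory.KrullDimension.Polynomial
import Mathlib.RingTheory.Polynomial.Quotient
import Mathlib.RingTheory.Localization.FractionRing
import Mathlib.RingTheory.AlgebraicIndependent.TranscendenceBasis
import Mathlib.RingTheory.Algebraic.Integral
import Mathlib.RingTheory.KrullDimension.PID

/-!
# Heights of primes of a polynomial ring over a Noetherian ring (EGA IV 5.5.3)
-/

set_option autoImplicit false
set_option linter.style.haveILetI false

open Polynomial

namespace Groth.Agent.Dim

universe u

variable {A : Type u} [CommRing A]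

theorem liesOver_map_C (p : Ideal A) [p.IsPrime] : (p.map (C : A →+* A[X])).LiesOver p := by
  refine ⟨le_antisymm Ideal.le_comap_map fun a ha => ?_⟩
  have h := Ideal.mem_map_C_iff.1 (show C a ∈ p.map (C : A →+* A[X]) from ha) 0
  rwa [coeff_C_zero] at h

/-- A nonzero prime of `D[X]` contracting to zero in the domain `D` has height one. -/
theorem height_eq_one_of_comap_C_eq_bot {D : Type u} [CommRing D] [IsDomain D] (Q : Ideal D[X])
    [Q.IsPrime] (hQ : Q.comap (C : D →+* D[X]) = ⊥) (h0 : Q ≠ ⊥) : Q.height = 1 := by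
  letI : Algebra D[X] (FractionRing D)[X] := (mapRingHom (algebraMap D (FractionRing D))).toAlgebra
  haveI : IsLocalization ((nonZeroDivisors D).map C) (FractionRing D)[X] :=
    Polynomial.isLocalization (nonZeroDivisors D) (FractionRing D)
  have hdisj : Disjoint (((nonZeroDivisors D).map (C : D →+* D[X]) : Submonoid D[X]) : Set D[X])
      (Q : Set D[X]) := by
    refine Set.disjoint_left.2 ?_
    rintro _ ⟨d, hd, rfl⟩ hdQ
    exact nonZeroDivisors.ne_zero hd (show d ∈ (⊥ : Ideal D) from hQ ▸ hdQ)
  rw [← IsLocalization.height_map_of_disjoint (S := (FractionRing D)[X]) ((nonZeroDivisors D).map C) Q hdisj]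
  set Q' := Q.map (algebraMap D[X] (FractionRing D)[X]) with hQ'
  haveI : Q'.IsPrime := IsLocalization.isPrime_of_isPrime_disjoint _ _ Q inferInstance hdisj
  have hne : Q' ≠ ⊥ := by
    intro h
    apply h0
    rw [← IsLocalization.comap_map_of_isPrime_disjoint ((nonZeroDivisors D).map C) (FractionRing D)[X]
      inferInstance hdisj, ← hQ', h]
    exact (RingHom.injective_iff_ker_eq_bot _).1
      (Polynomial.map_injective _ (IsFractionRing.injective D (FractionRing D)))
  haveI : Q'.IsMaximal := IsPrime.to_maximal_ideal hne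
  exact IsPrincipalIdealRing.height_eq_one_of_isMaximal Q' (Polynomial.not_isField (FractionRing D))

variable [IsNoetherianRing A]

theorem height_map_C_of_isPrime (p : Ideal A) [p.IsPrime] :
    (p.map (C : A →+* A[X])).height = p.height := by
  haveI := liesOver_map_C p
  haveI : (p.map (C : A →+* A[X])).IsPrime := Ideal.isPrime_map_C_of_isPrime
  haveI : Nontrivial (A[X] ⧸ p.map (algebraMap A A[X])) :=
    Ideal.Quotient.nontrivial_iff.2 (Ideal.IsPrime.ne_top (I := p.map (C : A →+* A[X])) inferInstance)
  rw [Ideal.height_eq_height_add_of_liesOver_of_hasGoingDown p (p.map (C : A →+* A[X])),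
    Polynomial.algebraMap_eq, Ideal.map_quotient_self, Ideal.height_bot, add_zero]

theorem height_eq_add_one_of_ne_map_C (p : Ideal A) [p.IsPrime] (q : Ideal A[X]) [q.IsPrime]
    [q.LiesOver p] (h : q ≠ p.map (C : A →+* A[X])) : q.height = p.height + 1 := by
  have hle : p.map (C : A →+* A[X]) ≤ q := by
    rw [Ideal.map_le_iff_le_comap]
    exact le_of_eq (Ideal.LiesOver.over (P := q) (p := p))
  rw [Ideal.height_eq_height_add_of_liesOver_of_hasGoingDown p q]
  congr 1
  let e : (A[X] ⧸ p.map (algebraMap A A[X])) ≃+* (A ⧸ p)[X] :=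
    (Ideal.polynomialQuotientEquivQuotientPolynomial p).symm
  have he : e.toRingHom.comp (Ideal.Quotient.mk (p.map (algebraMap A A[X]))) =
      mapRingHom (Ideal.Quotient.mk p) := by
    ext x <;> simp [e, Ideal.polynomialQuotientEquivQuotientPolynomial]
  rw [← e.height_map, show (q.map (Ideal.Quotient.mk (p.map (algebraMap A A[X])))).map e =
      q.map (mapRingHom (Ideal.Quotient.mk p)) by rw [← he, ← Ideal.map_map]; rfl]
  have hsurj : Function.Surjective (mapRingHom (Ideal.Quotient.mk p)) :=
    Polynomial.map_surjective _ Ideal.Quotient.mk_surjective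
  have hker : RingHom.ker (mapRingHom (Ideal.Quotient.mk p)) = p.map (C : A →+* A[X]) := by
    rw [Polynomial.ker_mapRingHom, Ideal.mk_ker]
  haveI : (q.map (mapRingHom (Ideal.Quotient.mk p))).IsPrime :=
    Ideal.map_isPrime_of_surjective hsurj (hker ▸ hle)
  have hcomap : (q.map (mapRingHom (Ideal.Quotient.mk p))).comap (mapRingHom (Ideal.Quotient.mk p)) = q := by
    rw [Ideal.comap_map_of_surjective' _ hsurj, hker, sup_eq_left.2 hle]
  refine height_eq_one_of_comap_C_eq_bot _ ?_ ?_
  · refine eq_bot_iff.2 fun x hx => ?_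
    obtain ⟨a, rfl⟩ := Ideal.Quotient.mk_surjective x
    rw [Ideal.mem_comap, ← Polynomial.map_C, ← coe_mapRingHom, ← Ideal.mem_comap, hcomap] at hx
    rw [Ideal.mem_bot, Ideal.Quotient.eq_zero_iff_mem, Ideal.LiesOver.over (P := q) (p := p)]
    exact hx
  · intro hb
    rw [hb] at hcomap
    exact h (by rw [← hcomap, ← hker]; rfl)

end Groth.Agent.Dim
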