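import Mathlib.Topology.KrullDimension
import Mathlib.Topology.Sober
import Mathlib.Topology.NoetherianSpace
import Mathlib.Topology.DiscreteSubset

/-!
# Topological dimension along continuous maps

* `topologicalKrullDim_le_subspace`: a continuous map without specializations inside fibres does not
  lower dimensions.
* `generalizingMap_of_isOpenMap`: open maps out of locally Noetherian sober spaces lift generizations.
-/

set_option autoImplicit false
set_option linter.style.haveILetI false

open TopologicalSpace

namespace Groth.Agent.Dim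

universe u v

theorem eq_of_specializes_of_isDiscrete {X : Type u} [TopologicalSpace X] {s : Set X}
    (hs : IsDiscrete s) {x x' : X} (hx : x ∈ s) (hx' : x' ∈ s) (h : x ⤳ x') : x = x' := by
  haveI : DiscreteTopology s := hs.to_subtype
  have h' : (⟨x, hx⟩ : s) ⤳ ⟨x', hx'⟩ := (subtype_specializes_iff _ _).2 h
  exact congrArg Subtype.val h'.eq

theorem topologicalKrullDim_le_subspace {X : Type u} {Y : Type v} [TopologicalSpace X]
    [TopologicalSpace Y] [QuasiSober X] [T0Space Y] (f : X → Y) (hf : Continuous f) (S : Set Y)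
    (hS : ∀ x, f x ∈ S) (hfib : ∀ x x', x ⤳ x' → f x = f x' → x = x') :
    topologicalKrullDim X ≤ topologicalKrullDim S := by
  let g : X → S := Set.codRestrict f S hS
  have hg : Continuous g := hf.codRestrict hS
  refine Order.krullDim_le_of_strictMono
    (fun Z : IrreducibleCloseds X => (⟨closure (g '' Z), (Z.isIrreducible.image g hg.continuousOn).closure,
      isClosed_closure⟩ : IrreducibleCloseds S)) ?_
  intro Z Z' hlt
  refine lt_of_le_of_ne (closure_mono (Set.image_mono hlt.le)) fun heq => ?_
  have hz := Z.isIrreducible.isGenericPoint_genericPoint Z.isClosed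
  have hz' := Z'.isIrreducible.isGenericPoint_genericPoint Z'.isClosed
  have h1 := hz.image hg
  have h2 := hz'.image hg
  have h3 : IsGenericPoint (g Z.isIrreducible.genericPoint) (closure (g '' Z')) := by
    have this : closure (g '' (Z : Set X)) = closure (g '' (Z' : Set X)) :=
      congrArg (fun W : IrreducibleCloseds S => (W : Set S)) heq
    exact this ▸ h1
  have h4 : g Z.isIrreducible.genericPoint = g Z'.isIrreducible.genericPoint := h3.eq h2
  have h5 := hfib _ _ (hz'.specializes (hlt.le hz.mem)) (congrArg Subtype.val h4).symm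
  refine hlt.ne (IrreducibleCloseds.ext ?_)
  rw [← hz.def, ← hz'.def, h5]

theorem generalizingMap_of_isOpenMap {X : Type u} {Y : Type v} [TopologicalSpace X]
    [TopologicalSpace Y] [QuasiSober X] [T0Space Y] (f : X → Y) (hf : Continuous f)
    (ho : IsOpenMap f)
    (hloc : ∀ x : X, ∃ U : Set X, IsOpen U ∧ x ∈ U ∧ NoetherianSpace U) :
    GeneralizingMap f := by
  intro x y' hy'
  obtain ⟨U, hU, hxU, hUn⟩ := hloc x
  let F : Set X := U ∩ f ⁻¹' {y'}
  have hxF : x ∈ closure F := by
    rw [mem_closure_iff]
    intro W hW hxW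
    obtain ⟨z, hz, hfz⟩ : y' ∈ f '' (W ∩ U) :=
      hy'.mem_open (ho _ (hW.inter hU)) ⟨x, ⟨hxW, hxU⟩, rfl⟩
    exact ⟨z, hz.1, hz.2, hfz⟩
  haveI : NoetherianSpace F := by
    haveI := hUn
    exact (Topology.IsEmbedding.inclusion (Set.inter_subset_left : F ⊆ U)).isInducing.noetherianSpace
  have hfin := NoetherianSpace.finite_irreducibleComponents (α := F)
  have hcov : closure F ⊆ ⋃ Z ∈ irreducibleComponents F, closure (Subtype.val '' Z) := by
    refine closure_minimal ?_ (hfin.isClosed_biUnion fun _ _ => isClosed_closure)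
    intro z hz
    exact Set.mem_biUnion (irreducibleComponent_mem_irreducibleComponents (⟨z, hz⟩ : F))
      (subset_closure ⟨⟨z, hz⟩, mem_irreducibleComponent, rfl⟩)
  obtain ⟨Z, hZ, hxZ⟩ := Set.mem_iUnion₂.1 (hcov hxF)
  have hirr : IsIrreducible (closure (Subtype.val '' Z)) :=
    (hZ.1.image _ continuous_subtype_val.continuousOn).closure
  have hg := hirr.isGenericPoint_genericPoint isClosed_closure
  refine ⟨hirr.genericPoint, hg.specializes hxZ, ?_⟩
  obtain ⟨z, hz⟩ := hZ.1.1
  have h1 : f hirr.genericPoint ⤳ y' := by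
    have := (hg.specializes (subset_closure ⟨z, hz, rfl⟩)).map hf
    rwa [show f z.1 = y' from z.2.2] at this
  have h2 : y' ⤳ f hirr.genericPoint := by
    rw [specializes_iff_mem_closure]
    refine map_mem_closure hf hg.mem ?_
    rintro _ ⟨w, _, rfl⟩
    exact w.2.2
  exact (h1.antisymm h2).eq

end Groth.Agent.Dim
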